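import Mathlib
import Groth.Prelude.Def_CAlg
import Groth.Agent.S14424
import Groth.Agent.DeformLib.FlatLift
import Groth.Agent.LocCohLib.Ischebeck
import Groth.Agent.CatLib.Basic

/-!
Dimension theory of Cohen–Macaulay local rings: localizations and the catenary property.
-/

set_option autoImplicit false

universe u

namespace Groth.Agent.CMCat

open IsLocalRing RingTheory.Sequence CategoryTheory

variable {R : Type u} [CommRing R]

/-- The depth bounds the dimension of every associated prime. -/
theorem depth_le_ringKrullDim_quotient [IsLocalRing R] [IsNoetherianRing R] {M : Type u} [AddCommGroup M]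
    [Module R M] [Module.Finite R M] [Nontrivial M] {d : ℕ} (hd : LocCoh.depth R M = d)
    {P : Ideal R} (hP : P ∈ associatedPrimes R M) : (d : WithBot ℕ∞) ≤ ringKrullDim (R ⧸ P) := by
  obtain ⟨hPp, f, hf⟩ := (isAssociatedPrime_iff_exists_injective_linearMap _ _).1 hP
  haveI := hPp
  haveI : Nontrivial (R ⧸ P) := Ideal.Quotient.nontrivial_iff.mpr hPp.ne_top
  by_contra hlt
  rw [not_le] at hlt
  obtain ⟨e, he⟩ : ∃ e : ℕ, ringKrullDim (R ⧸ P) = e := by
    have h1 := CatLib.coheight_ne_top (⟨P, hPp⟩ : PrimeSpectrum R)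
    obtain ⟨n, hn⟩ := ENat.ne_top_iff_exists.mp h1
    exact ⟨n, by rw [CatLib.ringKrullDim_quotient_eq_coheight ⟨P, hPp⟩, ← hn]; rfl⟩
  have hed : e < d := by rw [he] at hlt; exact_mod_cast hlt
  haveI := LocCohLib.subsingleton_ext_of_supportDim M d hd e (R ⧸ P)
    (by rw [Module.supportDim_quotient_eq_ringKrullDim, he]) 0 (by omega)
  have hzero : ModuleCat.ofHom f = 0 := (Abelian.Ext.mk₀_bijective _ _).1 (Subsingleton.elim _ _)
  have h1 : f 1 = 0 := by rw [show f = 0 from congrArg ModuleCat.Hom.hom hzero]; rfl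
  exact one_ne_zero (hf (h1.trans (map_zero f).symm))

/-- In a Cohen–Macaulay local ring `ht p + dim R/p = dim R`, and the local ring at `p` is again
Cohen–Macaulay. -/
theorem height_add_and_cm [LocCoh.IsCohenMacaulayLocalRing R] (p : Ideal R) [hp : p.IsPrime] :
    LocCoh.IsCohenMacaulayLocalRing (Localization.AtPrime p) ∧
      (p.height : WithBot ℕ∞) + ringKrullDim (R ⧸ p) = ringKrullDim R := by
  classical
  obtain ⟨d, hd⟩ : ∃ d : ℕ, ringKrullDim R = d := by
    obtain ⟨n, hn⟩ := ENat.ne_top_iff_exists.mp (Ideal.height_ne_top (I := maximalIdeal R) (maximalIdeal.isMaximal _).ne_top)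
    exact ⟨n, by rw [← maximalIdeal_height_eq_ringKrullDim, ← hn]; rfl⟩
  obtain ⟨rs, hrs⟩ := Depth.exists_isMaxSeq (M := R) (S14424.smul_top_ne p hp.ne_top)
  obtain ⟨hw, hm, x, hx, hx'⟩ := hrs
  let J : Ideal R := Ideal.ofList rs
  have hJ : Ideal.ofList rs • (⊤ : Submodule R R) = J := by simp [J, smul_eq_mul]
  have hJp : J ≤ p := Ideal.span_le.mpr hm
  have hJne : J ≠ ⊤ := fun h => hp.ne_top (top_le_iff.mp (h ▸ hJp))
  haveI : Nontrivial (R ⧸ J) := Ideal.Quotient.nontrivial_iff.mpr hJne
  haveI : IsLocalRing (R ⧸ J) := RegLocal.isLocalRing_quot hJne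
  have hmax : ∀ r ∈ rs, r ∈ maximalIdeal R := fun r hr => le_maximalIdeal hp.ne_top (hm r hr)
  -- dimension of the quotient
  have hreg : IsRegular R rs := Depth.isRegular_of_isWeaklyRegular
    (S14424.smul_top_ne (maximalIdeal R) Ideal.IsPrime.ne_top') hw hmax
  have hdimJ : ringKrullDim (R ⧸ J) + rs.length = ringKrullDim R :=
    ringKrullDim_add_length_eq_ringKrullDim_of_isRegular rs hreg
  obtain ⟨e, he⟩ : ∃ e : ℕ, ringKrullDim (R ⧸ J) = e := by
    obtain ⟨n, hn⟩ := ENat.ne_top_iff_exists.mp (Ideal.height_ne_top (I := maximalIdeal (R ⧸ J)) (maximalIdeal.isMaximal _).ne_top)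
    exact ⟨n, by rw [← maximalIdeal_height_eq_ringKrullDim, ← hn]; rfl⟩
  have heg : e + rs.length = d := by rw [he, hd] at hdimJ; exact_mod_cast hdimJ
  -- depth of the quotient
  obtain ⟨ys, hylen, hys, hrad⟩ := CotTLib.exists_sop_quot J hJne he
  have hw2 : IsWeaklyRegular R (rs ++ ys) := by
    refine DeformLib.isWeaklyRegular_of_ringKrullDim (rs ++ ys)
      (fun r hr => (List.mem_append.1 hr).elim (hmax r) (hys r)) ?_
    have hne : Ideal.ofList (rs ++ ys) ≠ ⊤ := fun h => (maximalIdeal.isMaximal R).ne_top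
      (top_le_iff.mp (h ▸ Ideal.span_le.mpr fun r hr => (List.mem_append.1 hr).elim (hmax r) (hys r)))
    have hz : ringKrullDim (R ⧸ Ideal.ofList (rs ++ ys)) = 0 := by
      haveI : Nontrivial (R ⧸ Ideal.ofList (rs ++ ys)) := Ideal.Quotient.nontrivial_iff.mpr hne
      refine le_antisymm ?_ ringKrullDim_nonneg_of_nontrivial
      rw [ringKrullDim_quotient]
      refine Order.krullDim_nonpos_iff_forall_isMax.mpr fun a b _ => ?_
      have hle : ∀ c : PrimeSpectrum.zeroLocus (Ideal.ofList (rs ++ ys) : Set R), c.1 = closedPoint R :=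
        fun c => PrimeSpectrum.ext (le_antisymm (le_maximalIdeal c.1.isPrime.ne_top) (hrad.trans (by
          rw [← Ideal.ofList_append]
          exact c.1.isPrime.radical_le_iff.mpr c.2)))
      exact le_of_eq (Subtype.ext ((hle b).trans (hle a).symm))
    rw [hz, zero_add, List.length_append, hylen, hd]
    exact_mod_cast (by omega : rs.length + e = d)
  have hquot : IsWeaklyRegular (R ⧸ (Ideal.ofList rs • ⊤ : Submodule R R)) ys :=
    ((isWeaklyRegular_append_iff R rs ys).1 hw2).2
  have hdepth : (e : ℕ∞) ≤ LocCoh.depth R (R ⧸ (Ideal.ofList rs • ⊤ : Submodule R R)) := by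
    have hne := Depth.smul_top_quot_ne_top (M := R) (J := Ideal.ofList rs) (Ideal.span_le.2 hmax)
      (S14424.smul_top_ne (maximalIdeal R) Ideal.IsPrime.ne_top')
    rw [LocCoh.depth, Depth.le_idealDepth_iff hne]
    exact ⟨ys, hylen, hys, hquot⟩
  haveI : Nontrivial (R ⧸ (Ideal.ofList rs • ⊤ : Submodule R R)) := by
    rw [hJ]; infer_instance
  -- an associated prime of the quotient containing `p`
  have hx0 : (Submodule.Quotient.mk x : R ⧸ (Ideal.ofList rs • ⊤ : Submodule R R)) ≠ 0 := fun h =>
    hx ((Submodule.Quotient.mk_eq_zero _).mp h)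
  obtain ⟨P, hPass, hle⟩ := exists_le_isAssociatedPrime_of_isNoetherianRing (R := R) _ hx0
  haveI := hPass.isPrime
  have hpP : p ≤ P := fun c hc => hle (Submodule.mem_colon_singleton.mpr (by
    rw [← Submodule.Quotient.mk_smul]
    exact (Submodule.mem_bot R).mpr ((Submodule.Quotient.mk_eq_zero _).mpr (hx' c hc))))
  obtain ⟨hdq, hdeq⟩ : ∃ a : ℕ, LocCoh.depth R (R ⧸ (Ideal.ofList rs • ⊤ : Submodule R R)) = a := by
    obtain ⟨rs', hrs'⟩ := Depth.exists_isMaxSeq (I := maximalIdeal R)
      (M := R ⧸ (Ideal.ofList rs • ⊤ : Submodule R R)) (Depth.smul_top_quot_ne_top (M := R) (J := Ideal.ofList rs)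
        (Ideal.span_le.2 hmax) (S14424.smul_top_ne (maximalIdeal R) Ideal.IsPrime.ne_top'))
    exact ⟨rs'.length, Depth.idealDepth_eq_length (Depth.smul_top_quot_ne_top (M := R) (J := Ideal.ofList rs)
      (Ideal.span_le.2 hmax) (S14424.smul_top_ne (maximalIdeal R) Ideal.IsPrime.ne_top')) hrs'⟩
  have hP1 : (e : WithBot ℕ∞) ≤ ringKrullDim (R ⧸ P) := by
    refine le_trans ?_ (depth_le_ringKrullDim_quotient hdeq hPass)
    rw [hdeq] at hdepth
    exact_mod_cast hdepth
  have hpJ : ringKrullDim (R ⧸ p) ≤ e := he ▸ ringKrullDim_le_of_surjective (Ideal.Quotient.factor hJp)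
    (Ideal.Quotient.factor_surjective hJp)
  let pp : PrimeSpectrum R := ⟨p, hp⟩
  let PP : PrimeSpectrum R := ⟨P, hPass.isPrime⟩
  have hc1 : ((e : ℕ∞) : WithBot ℕ∞) ≤ Order.coheight PP :=
    (CatLib.ringKrullDim_quotient_eq_coheight PP) ▸ hP1
  have hc2 : ((Order.coheight pp : ℕ∞) : WithBot ℕ∞) ≤ (e : ℕ∞) :=
    (CatLib.ringKrullDim_quotient_eq_coheight pp) ▸ hpJ
  have hanti : Order.coheight PP ≤ Order.coheight pp := Order.coheight_anti (show pp ≤ PP from hpP)
  have hce : Order.coheight pp = e :=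
    le_antisymm (WithBot.coe_le_coe.1 hc2) ((WithBot.coe_le_coe.1 hc1).trans hanti)
  -- bounds on the height
  have hge := S14424.localize_seq hw p hm
  have hsum : Order.height pp + (e : ℕ∞) ≤ (d : ℕ∞) := by
    have hfin : Order.height pp ≠ ⊤ := by
      rw [← PrimeSpectrum.height_eq_orderHeight]
      exact Ideal.height_ne_top hp.ne_top
    obtain ⟨m, hm'⟩ := ENat.ne_top_iff_exists.mp hfin
    obtain ⟨l, hl, hll⟩ := Order.exists_series_of_height_eq_coe pp hm'.symm
    obtain ⟨l', hl', hll'⟩ := Order.exists_series_of_coheight_eq_coe pp hce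
    have h := Order.LTSeries.length_le_krullDim (l.smash l' (hl.trans hl'.symm))
    rw [RelSeries.smash_length, hll, hll'] at h
    have this : ((Order.height pp + (e : ℕ∞) : ℕ∞) : WithBot ℕ∞) ≤ Order.krullDim (PrimeSpectrum R) := by
      rw [← hm']
      exact le_trans (le_of_eq (by push_cast; rfl)) h
    rw [show Order.krullDim (PrimeSpectrum R) = ringKrullDim R from rfl, hd] at this
    exact_mod_cast this
  have hh : p.height = (rs.length : ℕ∞) := by
    refine le_antisymm ?_ hge.1
    rw [PrimeSpectrum.height_eq_orderHeight pp]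
    rw [← heg, Nat.cast_add, add_comm (e : ℕ∞)] at hsum
    exact (ENat.add_le_add_iff_right (ENat.coe_ne_top e)).1 hsum
  refine ⟨(S14424.cm_iff_depth_eq_height p).2 (le_antisymm (S14424.depth_at_le_height p) (hh ▸ hge.2)), ?_⟩
  rw [CatLib.ringKrullDim_quotient_eq_coheight pp, hce, hh, hd, ← heg]
  push_cast
  rw [add_comm]

theorem isCohenMacaulayRing_of_local [LocCoh.IsCohenMacaulayLocalRing R] : LocCoh.IsCohenMacaulayRing R :=
  { isCohenMacaulayLocalRing_localization := fun p _ => (height_add_and_cm p).1 }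

/-- A height function with unit steps gives the catenary property. -/
theorem isCatenary_of_height_covBy [IsNoetherianRing R]
    (H : ∀ p q : PrimeSpectrum R, p ⋖ q → Order.height q = Order.height p + 1) : CAlg.IsCatenary R := by
  have hfin : ∀ q : PrimeSpectrum R, Order.height q ≠ ⊤ := fun q => by
    rw [← PrimeSpectrum.height_eq_orderHeight]
    exact Ideal.height_ne_top q.isPrime.ne_top
  refine ⟨fun p q _ => ⟨(Order.height q).toNat, fun s _ hl => ?_⟩, fun s t hh hl hs ht => ?_⟩
  · have h : (s.length : ℕ∞) ≤ Order.height q := hl ▸ Order.length_le_height_last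
    rw [← ENat.natCast_toNat (hfin q)] at h
    exact_mod_cast h
  · have key : ∀ s : LTSeries (PrimeSpectrum R),
        (∀ i : Fin s.length, s (Fin.castSucc i) ⋖ s (Fin.succ i)) →
        Order.height s.last = Order.height s.head + s.length := by
      intro s hs
      suffices ∀ i : Fin (s.length + 1), Order.height (s i) = Order.height s.head + (i : ℕ) by
        simpa [RelSeries.last] using this (Fin.last _)
      intro i
      induction i using Fin.induction with
      | zero => simp [RelSeries.head]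
      | succ i ih => rw [H _ _ (hs i), ih]; simp [add_assoc]
    have h1 := key s hs
    have h2 := key t ht
    rw [hl, h2, hh] at h1
    have h3 := (ENat.addLECancellable_of_ne_top (hfin t.head)).inj.1 h1
    exact_mod_cast h3.symm

/-- Cohen–Macaulay rings are catenary. -/
theorem isCatenary_of_cm [LocCoh.IsCohenMacaulayRing R] : CAlg.IsCatenary R := by
  refine isCatenary_of_height_covBy fun p q hpq => ?_
  let L := Localization.AtPrime q.asIdeal
  haveI : LocCoh.IsCohenMacaulayLocalRing L :=
    LocCoh.IsCohenMacaulayRing.isCohenMacaulayLocalRing_localization q.asIdeal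
  have hd : Disjoint (q.asIdeal.primeCompl : Set R) (p.asIdeal : Set R) :=
    Set.disjoint_left.2 fun x hx hxp => hx (hpq.le hxp)
  let p' : PrimeSpectrum L := ⟨p.asIdeal.map (algebraMap R L),
    IsLocalization.isPrime_of_isPrime_disjoint q.asIdeal.primeCompl L _ p.isPrime hd⟩
  have hp' : p'.asIdeal.comap (algebraMap R L) = p.asIdeal :=
    IsLocalization.under_map_of_isPrime_disjoint q.asIdeal.primeCompl L p.isPrime hd
  have hmax : (maximalIdeal L).comap (algebraMap R L) = q.asIdeal :=
    IsLocalization.AtPrime.comap_maximalIdeal L q.asIdeal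
  have hlt : p' < closedPoint L := lt_of_le_of_ne (le_maximalIdeal p'.isPrime.ne_top) fun e => hpq.ne
    (PrimeSpectrum.ext (hp'.symm.trans ((congrArg (fun z => z.asIdeal.comap (algebraMap R L)) e).trans hmax)))
  have honly : ∀ y, p' < y → y = closedPoint L := fun y hy => by
    by_contra hne
    have h1 : PrimeSpectrum.comap (algebraMap R L) p' < PrimeSpectrum.comap (algebraMap R L) y :=
      (IsLocalization.orderEmbedding q.asIdeal.primeCompl L).strictMono hy
    have h2 : PrimeSpectrum.comap (algebraMap R L) y < PrimeSpectrum.comap (algebraMap R L) (closedPoint L) :=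
      (IsLocalization.orderEmbedding q.asIdeal.primeCompl L).strictMono
        (lt_of_le_of_ne (le_maximalIdeal y.isPrime.ne_top) fun e => hne (PrimeSpectrum.ext e))
    rw [show PrimeSpectrum.comap (algebraMap R L) p' = p from PrimeSpectrum.ext hp'] at h1
    rw [show PrimeSpectrum.comap (algebraMap R L) (closedPoint L) = q from PrimeSpectrum.ext hmax] at h2
    exact hpq.2 h1 h2
  have h1 : Order.coheight p' = 1 := by
    have hc : Order.coheight (closedPoint L) = 0 :=
      Order.coheight_eq_zero.2 fun y _ => le_maximalIdeal y.isPrime.ne_top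
    rw [show (1 : ℕ∞) = ((0 : ℕ) : ℕ∞) + 1 by simp]
    exact Order.coheight_eq_coe_add_one_iff.2 ⟨lt_top_iff_ne_top.2 (CatLib.coheight_ne_top p'),
      ⟨closedPoint L, hlt, by simpa using hc⟩, fun y hy => by rw [honly y hy]; simpa using hc.le⟩
  have h2 := (height_add_and_cm p'.asIdeal (hp := p'.isPrime)).2
  rw [CatLib.ringKrullDim_quotient_eq_coheight p', h1, ← maximalIdeal_height_eq_ringKrullDim,
    ← WithBot.coe_add, WithBot.coe_eq_coe, ← IsLocalization.height_comap q.asIdeal.primeCompl p'.asIdeal, Ideal.under_def, hp',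
    ← IsLocalization.height_comap q.asIdeal.primeCompl (maximalIdeal L), Ideal.under_def, hmax] at h2
  rw [← PrimeSpectrum.height_eq_orderHeight, ← PrimeSpectrum.height_eq_orderHeight]
  exact h2.symm

end Groth.Agent.CMCat
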