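import Mathlib
import Groth.Agent.CMCat.Local
import Groth.Agent.Depth.FlatLocal

/-!
Polynomial rings over Cohen–Macaulay rings are Cohen–Macaulay, hence Cohen–Macaulay rings are
universally catenary.
-/

set_option autoImplicit false

universe u

namespace Groth.Agent.CMCat

open IsLocalRing RingTheory.Sequence Polynomial

theorem isCohenMacaulayLocalRing_of_ringEquiv {A B : Type u} [CommRing A] [CommRing B]
    [LocCoh.IsCohenMacaulayLocalRing A] (e : A ≃+* B) : LocCoh.IsCohenMacaulayLocalRing B := by
  haveI : IsLocalRing B := e.isLocalRing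
  haveI : IsNoetherianRing B := isNoetherianRing_of_ringEquiv A e
  letI : Algebra A B := (e : A →+* B).toAlgebra
  haveI : Module.Flat A B := Module.Flat.of_linearEquiv
    (AlgEquiv.ofRingEquiv (f := e) (fun _ => rfl) : A ≃ₐ[A] B).toLinearEquiv.symm
  exact (Depth.isCohenMacaulayLocalRing_iff_of_map_maximalIdeal (R := A) (S := B)
    (IsLocalRing.map_ringEquiv_maximalIdeal e)).2 inferInstance

theorem isCohenMacaulayRing_of_ringEquiv {A B : Type u} [CommRing A] [CommRing B]
    [LocCoh.IsCohenMacaulayRing A] (e : A ≃+* B) : LocCoh.IsCohenMacaulayRing B := by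
  haveI : IsNoetherianRing B := isNoetherianRing_of_ringEquiv A e
  refine { isCohenMacaulayLocalRing_localization := fun p _ => ?_ }
  haveI := LocCoh.IsCohenMacaulayRing.isCohenMacaulayLocalRing_localization (p.comap e) (R := A)
  exact isCohenMacaulayLocalRing_of_ringEquiv
    (IsLocalization.ringEquivOfRingEquiv (S := Localization.AtPrime (p.comap e)) (Localization.AtPrime p) e
      (M := (p.comap e).primeCompl) (T := p.primeCompl) (by
        ext y
        simp only [Submonoid.mem_map, Ideal.mem_primeCompl_iff, Ideal.mem_comap]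
        exact ⟨fun ⟨x, hx, hxy⟩ => hxy ▸ hx, fun hy => ⟨e.symm y, by simpa using hy, e.apply_symm_apply y⟩⟩))

/-- The height of a prime of `R[X]` exceeds the height of its contraction by at most one. -/
theorem height_le_height_comap_add_one {R : Type u} [CommRing R] [IsNoetherianRing R]
    (Q : Ideal R[X]) [hQ : Q.IsPrime] : Q.height ≤ (Q.comap (C : R →+* R[X])).height + 1 := by
  let p : Ideal R := Q.comap (C : R →+* R[X])
  let Rp := Localization.AtPrime p
  letI : Algebra R[X] Rp[X] := Polynomial.algebra R Rp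
  haveI : IsLocalization (p.primeCompl.map (C : R →+* R[X])) Rp[X] := Polynomial.isLocalization p.primeCompl Rp
  have disj : Disjoint (p.primeCompl.map (C : R →+* R[X]) : Set R[X]) Q :=
    Set.disjoint_left.mpr fun a ⟨b, hb, hab⟩ ha => hb (show C b ∈ Q from hab ▸ ha)
  let Q' : Ideal Rp[X] := Q.map (algebraMap R[X] Rp[X])
  haveI : Q'.IsPrime := IsLocalization.isPrime_of_isPrime_disjoint _ _ Q hQ disj
  obtain ⟨M, hM, hQM⟩ := Ideal.exists_le_maximal Q' (Ideal.IsPrime.ne_top inferInstance)
  let P : Ideal Rp := M.comap (C : Rp →+* Rp[X])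
  haveI : M.LiesOver P := ⟨rfl⟩
  have hP : P = maximalIdeal Rp := by
    refine le_antisymm (le_maximalIdeal (Ideal.IsPrime.ne_top inferInstance)) ?_
    rw [← Localization.AtPrime.map_eq_maximalIdeal, Ideal.map_le_iff_le_comap]
    intro x hx
    refine hQM ?_
    have : algebraMap R[X] Rp[X] (C x) ∈ Q' := Ideal.mem_map_of_mem _ hx
    simpa [Polynomial.algebra] using this
  rw [← IsLocalization.height_map_of_disjoint (p.primeCompl.map (C : R →+* R[X])) Q disj (S := Rp[X])]
  refine (Ideal.height_mono hQM).trans ?_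
  rw [Polynomial.height_eq_height_add_one P M, hP,
    ← IsLocalization.height_comap p.primeCompl (maximalIdeal Rp),
    IsLocalization.AtPrime.comap_maximalIdeal Rp p]

theorem height_le_of_eq_map {R : Type u} [CommRing R] [IsNoetherianRing R]
    (Q : Ideal R[X]) [Q.IsPrime] (h : Q = (Q.comap (C : R →+* R[X])).map C) :
    Q.height ≤ (Q.comap (C : R →+* R[X])).height := by
  let p : Ideal R := Q.comap (C : R →+* R[X])
  haveI : Q.LiesOver p := ⟨rfl⟩
  rw [Ideal.height_eq_height_add_of_liesOver_of_hasGoingDown p Q]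
  have hz : Q.map (Ideal.Quotient.mk (p.map (algebraMap R R[X]))) = ⊥ := by
    rw [Ideal.map_eq_bot_iff_le_ker, Ideal.mk_ker]
    exact h.le
  haveI : (p.map (algebraMap R R[X])).IsPrime := by
    rw [show p.map (algebraMap R R[X]) = Q from h.symm]
    infer_instance
  rw [hz, Ideal.height_bot, add_zero]

/-- Cohen–Macaulay passes to polynomial rings. -/
theorem isCohenMacaulayRing_polynomial {R : Type u} [CommRing R] [LocCoh.IsCohenMacaulayRing R] :
    LocCoh.IsCohenMacaulayRing R[X] := by
  classical
  refine { isCohenMacaulayLocalRing_localization := fun Q hQ => ?_ }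
  let p : Ideal R := Q.comap (C : R →+* R[X])
  haveI : p.IsPrime := Ideal.IsPrime.comap _
  have hne : p ≠ ⊤ := Ideal.IsPrime.ne_top inferInstance
  obtain ⟨rs, hrs⟩ := Depth.exists_isMaxSeq (M := R) (S14424.smul_top_ne p hne)
  have hlen : p.height = rs.length := by
    rw [← (S14424.result R).1 inferInstance p hne,
      Depth.idealDepth_eq_length (S14424.smul_top_ne p hne) hrs]
  have hw : IsWeaklyRegular R[X] (rs.map (algebraMap R R[X])) :=
    hrs.1.of_flat_of_isBaseChange (IsBaseChange.linearMap R R[X])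
  have hm : ∀ r ∈ rs.map (algebraMap R R[X]), r ∈ Q := fun r hr => by
    obtain ⟨a, ha, rfl⟩ := List.mem_map.mp hr
    exact hrs.2.1 a ha
  refine (S14424.cm_iff_depth_eq_height Q).2 (le_antisymm (S14424.depth_at_le_height Q) ?_)
  by_cases hQp : Q = p.map C
  · refine (height_le_of_eq_map Q hQp).trans ?_
    rw [hlen]
    simpa using (S14424.localize_seq hw Q hm).2
  refine (height_le_height_comap_add_one Q).trans ?_
  rw [hlen]
  obtain ⟨f, hfQ, hfp⟩ : ∃ f ∈ Q, f ∉ p.map C := SetLike.exists_of_lt
    (lt_of_le_of_ne Ideal.map_comap_le fun e => hQp e.symm)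
  let B := Localization.AtPrime Q
  haveI : IsNoetherianRing B := IsLocalization.isNoetherianRing Q.primeCompl B inferInstance
  haveI : Module.Flat R[X] B := IsLocalization.flat B Q.primeCompl
  let L : List B := (rs.map (algebraMap R R[X])).map (algebraMap R[X] B)
  have hwB : IsWeaklyRegular B L := hw.of_flat_of_isBaseChange (IsBaseChange.linearMap R[X] B)
  -- the ideal generated by the sequence
  let J : Ideal R := Ideal.ofList rs
  have hJX : Ideal.ofList (rs.map (algebraMap R R[X])) = J.map C := (Ideal.map_ofList _ rs).symm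
  have hcancel : ∀ u g : R[X], u ∉ Q → u * (f * g) ∈ J.map C → ∃ t ∉ Q, t * g ∈ J.map C := by
    intro u g hu hmem
    have huf : u * f ∉ p.map C := fun h => by
      have hprime : (p.map (C : R →+* R[X])).IsPrime := Ideal.isPrime_map_C_of_isPrime (P := p)
      exact ((hprime.mem_or_mem h).elim
        (fun h' => hu ((Ideal.map_comap_le : p.map C ≤ Q) h')) hfp)
    let φ : R →+* Localization.AtPrime p ⧸ J.map (algebraMap R (Localization.AtPrime p)) :=
      (Ideal.Quotient.mk _).comp (algebraMap R (Localization.AtPrime p))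
    have hzero : (u * f).map φ * g.map φ = 0 := by
      rw [← Polynomial.map_mul, mul_assoc]
      ext n
      rw [Polynomial.coeff_map, coeff_zero]
      exact Ideal.Quotient.eq_zero_iff_mem.2 (Ideal.mem_map_of_mem _ (Ideal.mem_map_C_iff.1 hmem n))
    have hregular : (u * f).map φ ∈ nonZeroDivisors _ := by
      by_contra hzd
      obtain ⟨a, ha, haf⟩ := Polynomial.notMem_nonZeroDivisors_iff.1 hzd
      simp only [Ideal.mem_map_C_iff, not_forall] at huf
      obtain ⟨n, hn⟩ := huf
      have hun : IsUnit (φ ((u * f).coeff n)) :=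
        ((IsLocalization.map_units (Localization.AtPrime p) (⟨_, hn⟩ : p.primeCompl))).map
          (Ideal.Quotient.mk (J.map (algebraMap R (Localization.AtPrime p))))
      refine ha (hun.mul_left_eq_zero.1 ?_)
      have := congrArg (fun P => Polynomial.coeff P n) haf
      rwa [coeff_smul, smul_eq_mul, Polynomial.coeff_map, coeff_zero] at this
    have hg : g.map φ = 0 := mem_nonZeroDivisors_iff.1 hregular |>.1 _ hzero
    have hcoeff : ∀ n, ∃ s ∉ p, s * g.coeff n ∈ J := fun n => by
      have h0 := congrArg (fun P => Polynomial.coeff P n) hg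
      simp only [Polynomial.coeff_map, coeff_zero, φ, RingHom.comp_apply, Ideal.Quotient.eq_zero_iff_mem] at h0
      obtain ⟨s, hs, hsJ⟩ := (IsLocalization.algebraMap_mem_map_algebraMap_iff p.primeCompl _ J _).1 h0
      exact ⟨s, hs, hsJ⟩
    choose s hs hsJ using hcoeff
    refine ⟨C (∏ n ∈ g.support, s n), fun h => ?_, Ideal.mem_map_C_iff.2 fun n => ?_⟩
    · obtain ⟨n, -, hn⟩ := (inferInstance : p.IsPrime).prod_mem_iff.1 h
      exact hs n hn
    · rw [coeff_C_mul]
      by_cases hn : n ∈ g.support
      · rw [← Finset.prod_erase_mul _ _ hn, mul_assoc]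
        exact J.mul_mem_left _ (hsJ n)
      · rw [notMem_support_iff.1 hn, mul_zero]
        exact J.zero_mem
  have hJB : (Ideal.ofList L • ⊤ : Submodule B B) = (J.map C).map (algebraMap R[X] B) := by
    rw [smul_eq_mul, Ideal.mul_top, ← hJX, Ideal.map_ofList]
  have hlast : IsSMulRegular (B ⧸ (Ideal.ofList L • ⊤ : Submodule B B)) (algebraMap R[X] B f) := by
    refine IsSMulRegular.of_right_eq_zero_of_smul fun z hz => ?_
    obtain ⟨z, rfl⟩ := Submodule.Quotient.mk_surjective _ z
    rw [← Submodule.Quotient.mk_smul, Submodule.Quotient.mk_eq_zero, hJB, smul_eq_mul] at hz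
    rw [Submodule.Quotient.mk_eq_zero, hJB]
    obtain ⟨g, t, rfl⟩ := IsLocalization.exists_mk'_eq Q.primeCompl z
    have hfg : algebraMap R[X] B (f * g) ∈ (J.map C).map (algebraMap R[X] B) := by
      rw [map_mul, ← IsLocalization.mk'_spec B g t, ← mul_assoc]
      exact Ideal.mul_mem_right _ _ hz
    obtain ⟨u, hu, hu'⟩ := (IsLocalization.algebraMap_mem_map_algebraMap_iff Q.primeCompl B _ _).1 hfg
    obtain ⟨v, hv, hv'⟩ := hcancel u g hu hu'
    have hg : algebraMap R[X] B g ∈ (J.map C).map (algebraMap R[X] B) :=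
      (IsLocalization.algebraMap_mem_map_algebraMap_iff Q.primeCompl B _ _).2 ⟨v, hv, hv'⟩
    rw [IsLocalization.mk'_eq_mul_mk'_one]
    exact Ideal.mul_mem_right _ _ hg
  have hwf : IsWeaklyRegular B (L ++ [algebraMap R[X] B f]) :=
    (isWeaklyRegular_append_iff B L _).2 ⟨hwB, (isWeaklyRegular_singleton_iff _ _).2 hlast⟩
  rw [LocCoh.depth, show ((rs.length : ℕ∞) + 1) = ((rs.length + 1 : ℕ) : ℕ∞) by push_cast; rfl,
    Depth.le_idealDepth_iff (S14424.smul_top_ne (maximalIdeal B) Ideal.IsPrime.ne_top')]
  refine ⟨L ++ [algebraMap R[X] B f], by simp [L], fun r hr => ?_, hwf⟩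
  rw [← Localization.AtPrime.map_eq_maximalIdeal]
  rcases List.mem_append.1 hr with h | h
  · obtain ⟨a, ha, rfl⟩ := List.mem_map.mp h
    exact Ideal.mem_map_of_mem _ (hm a ha)
  · rw [List.mem_singleton.1 h]
    exact Ideal.mem_map_of_mem _ hfQ

theorem isCohenMacaulayRing_mvPolynomial {R : Type u} [CommRing R] [LocCoh.IsCohenMacaulayRing R] :
    ∀ n : ℕ, LocCoh.IsCohenMacaulayRing (MvPolynomial (Fin n) R) := by
  intro n
  induction n with
  | zero => exact isCohenMacaulayRing_of_ringEquiv (MvPolynomial.isEmptyRingEquiv R (Fin 0)).symm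
  | succ n ih =>
    haveI := ih
    haveI := isCohenMacaulayRing_polynomial (R := MvPolynomial (Fin n) R)
    exact isCohenMacaulayRing_of_ringEquiv (MvPolynomial.finSuccEquiv R n).toRingEquiv.symm

theorem isUniversallyCatenary_of_cm {R : Type u} [CommRing R] [LocCoh.IsCohenMacaulayRing R] :
    CAlg.IsUniversallyCatenary R := by
  refine ⟨inferInstance, fun S _ _ hS => ?_⟩
  obtain ⟨n, φ, hφ⟩ := Algebra.FiniteType.iff_quotient_mvPolynomial''.1 hS
  haveI := isCohenMacaulayRing_mvPolynomial (R := R) n
  let e : (MvPolynomial (Fin n) R ⧸ RingHom.ker φ.toRingHom) ≃+* S :=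
    RingHom.quotientKerEquivOfSurjective hφ
  exact CatLib.isCatenary_of_convex (PrimeSpectrum.comapEquiv e.symm).toOrderEmbedding
    (by
      rw [Set.range_eq_univ.2 (show Function.Surjective ((PrimeSpectrum.comapEquiv e.symm).toOrderEmbedding) from
        (PrimeSpectrum.comapEquiv e.symm).surjective)]
      exact Set.ordConnected_univ)
    (CatLib.isCatenary_quotient _ isCatenary_of_cm)

/-- Regular rings are Cohen–Macaulay, hence universally catenary. -/
theorem isUniversallyCatenary_of_cmLocal {R : Type u} [CommRing R] [LocCoh.IsCohenMacaulayLocalRing R] :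
    CAlg.IsUniversallyCatenary R :=
  haveI := isCohenMacaulayRing_of_local (R := R)
  isUniversallyCatenary_of_cm

end Groth.Agent.CMCat
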