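import Mathlib
import Groth.Agent.RegLocal.Completion

/-!
Completion commutes with quotients of Noetherian local rings.
-/

set_option autoImplicit false

universe u

open IsLocalRing

namespace Groth.Agent.CMCat

theorem evalₐ_eq_zero_iff {A : Type u} [CommRing A] {I : Ideal A} (hfg : I.FG) (n : ℕ)
    (x : AdicCompletion I A) :
    AdicCompletion.evalₐ I n x = 0 ↔ x ∈ (I ^ n).map (algebraMap A (AdicCompletion I A)) := by
  have h : (I ^ n • ⊤ : Ideal A) = I ^ n := by ext y; simp
  rw [show x ∈ (I ^ n).map (algebraMap A (AdicCompletion I A)) ↔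
      x ∈ (I ^ n • ⊤ : Submodule A (AdicCompletion I A)) by
    rw [Ideal.smul_top_eq_map, Submodule.restrictScalars_mem],
    AdicCompletion.pow_smul_top_eq_ker_eval hfg, LinearMap.mem_ker,
    ← map_eq_zero_iff (Ideal.quotientEquivAlgOfEq A h) (AlgEquiv.injective _)]
  rfl

theorem cauchy_sub_mem {A : Type u} [CommRing A] (I : Ideal A)
    (f : AdicCompletion.AdicCauchySequence I A) {k n : ℕ} (h : k ≤ n) :
    f.1 n - f.1 k ∈ I ^ k := by
  have := f.2 h
  rw [SModEq.sub_mem, smul_eq_mul, Ideal.mul_top] at this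
  rw [← neg_sub]
  exact (Submodule.neg_mem_iff _).2 this

section Hom

variable {A B : Type u} [CommRing A] [CommRing B] (φ : A →+* B) (I : Ideal A) (J : Ideal B)
  (h : I.map φ ≤ J)

/-- Component maps. -/
noncomputable def levelHom (n : ℕ) : AdicCompletion I A →+* B ⧸ J ^ n :=
  (Ideal.quotientMap (J ^ n) φ (I := I ^ n) (by
    rw [← Ideal.map_le_iff_le_comap, Ideal.map_pow]
    exact Ideal.pow_right_mono h n)).comp (AdicCompletion.evalₐ I n).toRingHom

theorem levelHom_mk (n : ℕ) (f : AdicCompletion.AdicCauchySequence I A) :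
    levelHom φ I J h n (AdicCompletion.mk I A f) = Ideal.Quotient.mk (J ^ n) (φ (f.1 n)) := by
  simp only [levelHom, RingHom.comp_apply, AlgHom.toRingHom_eq_coe, RingHom.coe_coe]
  rw [AdicCompletion.evalₐ_mk]
  rfl

theorem levelHom_compat {k n : ℕ} (hle : k ≤ n) :
    (Ideal.Quotient.factorPow J hle).comp (levelHom φ I J h n) = levelHom φ I J h k := by
  ext x
  induction x using AdicCompletion.induction_on with
  | h f =>
    rw [RingHom.comp_apply, levelHom_mk, levelHom_mk, Ideal.Quotient.factor_mk,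
      Ideal.Quotient.mk_eq_mk_iff_sub_mem, ← map_sub]
    refine Ideal.pow_right_mono h k ?_
    rw [← Ideal.map_pow]
    exact Ideal.mem_map_of_mem _ (cauchy_sub_mem I f hle)

/-- The map of completions induced by a ring homomorphism. -/
noncomputable def complHom : AdicCompletion I A →+* AdicCompletion J B :=
  AdicCompletion.liftRingHom J (levelHom φ I J h) fun hle => levelHom_compat φ I J h hle

theorem evalₐ_complHom (n : ℕ) (x : AdicCompletion I A) :
    AdicCompletion.evalₐ J n (complHom φ I J h x) = levelHom φ I J h n x :=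
  AdicCompletion.evalₐ_liftRingHom J _ (fun hle => levelHom_compat φ I J h hle) n x

theorem complHom_algebraMap (a : A) :
    complHom φ I J h (algebraMap A _ a) = algebraMap B _ (φ a) := by
  refine AdicCompletion.ext_evalₐ fun n => ?_
  rw [evalₐ_complHom]
  simp only [levelHom, RingHom.comp_apply, AlgHom.toRingHom_eq_coe, RingHom.coe_coe, AlgHom.commutes,
    Ideal.Quotient.algebraMap_eq, Ideal.quotientMap_mk]

end Hom

variable {A : Type u} [CommRing A] (I P : Ideal A)

theorem complHom_mk_surjective :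
    Function.Surjective (complHom (Ideal.Quotient.mk P) I (I.map (Ideal.Quotient.mk P)) le_rfl) := by
  intro y
  induction y using AdicCompletion.induction_on with
  | h f =>
    have hmem : ∀ n, (I ^ n • ⊤ : Submodule A (A ⧸ P)) =
        ((I.map (Ideal.Quotient.mk P)) ^ n).restrictScalars A := fun n => by
      rw [Ideal.smul_top_eq_map, Ideal.Quotient.algebraMap_eq, Ideal.map_pow]
    let g : AdicCompletion.AdicCauchySequence I (A ⧸ P) :=
      ⟨f.1, fun {a b} hab => by
        rw [SModEq.sub_mem, hmem, Submodule.restrictScalars_mem, ← neg_sub]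
        exact (Submodule.neg_mem_iff _).2 (cauchy_sub_mem _ f hab)⟩
    obtain ⟨x, hx⟩ := AdicCompletion.map_surjective I (f := Submodule.mkQ P) (Submodule.mkQ_surjective P)
      (AdicCompletion.mk I (A ⧸ P) g)
    refine ⟨x, AdicCompletion.ext_evalₐ fun n => ?_⟩
    rw [evalₐ_complHom, AdicCompletion.evalₐ_mk]
    induction x using AdicCompletion.induction_on with
    | h a =>
      rw [levelHom_mk, Ideal.Quotient.mk_eq_mk_iff_sub_mem]
      have h := congrArg (fun z => z.val n) hx
      simp only [AdicCompletion.map_mk, AdicCompletion.mk_apply_coe, Submodule.mkQ_apply] at h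
      rw [Submodule.Quotient.eq, hmem, Submodule.restrictScalars_mem] at h
      exact h

theorem mem_sup_pow_of_complHom_eq_zero [IsNoetherianRing A] (x : AdicCompletion I A)
    (hx : complHom (Ideal.Quotient.mk P) I (I.map (Ideal.Quotient.mk P)) le_rfl x = 0) (n : ℕ) :
    x ∈ P.map (algebraMap A (AdicCompletion I A)) ⊔
      (I.map (algebraMap A (AdicCompletion I A))) ^ n := by
  have h0 := evalₐ_complHom (Ideal.Quotient.mk P) I (I.map (Ideal.Quotient.mk P)) le_rfl n x
  rw [hx, map_zero] at h0
  induction x using AdicCompletion.induction_on with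
  | h f =>
    rw [levelHom_mk, eq_comm, Ideal.Quotient.eq_zero_iff_mem, ← Ideal.map_pow,
      Ideal.mem_quotient_iff_mem_sup] at h0
    obtain ⟨u, hu, v, hv, huv⟩ := Submodule.mem_sup.1 h0
    have hdiff : AdicCompletion.mk I A f - algebraMap A _ v ∈
        (I ^ n).map (algebraMap A (AdicCompletion I A)) := by
      rw [← evalₐ_eq_zero_iff I.fg_of_isNoetherianRing, map_sub, AlgHom.commutes,
        AdicCompletion.evalₐ_mk, Ideal.Quotient.algebraMap_eq, ← map_sub, Ideal.Quotient.eq_zero_iff_mem,
        ← huv, add_sub_cancel_right]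
      exact hu
    rw [show AdicCompletion.mk I A f =
      algebraMap A _ v + (AdicCompletion.mk I A f - algebraMap A _ v) by ring, ← Ideal.map_pow]
    exact Submodule.add_mem_sup (Ideal.mem_map_of_mem _ hv) hdiff

theorem mem_of_forall_mem_sup_pow {R : Type u} [CommRing R] [IsLocalRing R] [IsNoetherianRing R]
    {J K : Ideal R} (hJ : J ≠ ⊤) (hK : K ≠ ⊤) {x : R} (hx : ∀ n : ℕ, x ∈ J ⊔ K ^ n) : x ∈ J := by
  haveI : Nontrivial (R ⧸ J) := Ideal.Quotient.nontrivial_iff.mpr hJ
  haveI : IsLocalRing (R ⧸ J) := IsLocalRing.of_surjective' (Ideal.Quotient.mk J) Ideal.Quotient.mk_surjective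
  have hne : K.map (Ideal.Quotient.mk J) ≠ ⊤ := fun h => by
    have h' : K ⊔ J = ⊤ := by
      rw [← sup_comm, ← Ideal.comap_top (f := Ideal.Quotient.mk J), ← h,
        Ideal.comap_map_of_surjective' _ Ideal.Quotient.mk_surjective, Ideal.mk_ker, sup_comm]
    exact (maximalIdeal.isMaximal R).ne_top
      (top_le_iff.1 (h' ▸ sup_le (le_maximalIdeal hK) (le_maximalIdeal hJ)))
  rw [← Ideal.Quotient.eq_zero_iff_mem, ← Submodule.mem_bot (R ⧸ J),
    ← Ideal.iInf_pow_eq_bot_of_isLocalRing _ hne, Submodule.mem_iInf]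
  intro n
  rw [← Ideal.map_pow, Ideal.mem_quotient_iff_mem_sup, sup_comm]
  exact hx n

theorem ker_complHom_mk [IsLocalRing A] [IsNoetherianRing A] (hI : I ≠ ⊤) (hP : P ≠ ⊤) :
    RingHom.ker (complHom (Ideal.Quotient.mk P) I (I.map (Ideal.Quotient.mk P)) le_rfl) =
      P.map (algebraMap A (AdicCompletion I A)) := by
  haveI := RegLocal.isLocalRing_completion A I hI
  haveI := RegLocal.isNoetherianRing_completion A I
  have hne : ∀ K : Ideal A, K ≠ ⊤ → K.map (algebraMap A (AdicCompletion I A)) ≠ ⊤ := fun K hK h =>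
    (maximalIdeal.isMaximal (AdicCompletion I A)).ne_top (top_le_iff.1 (h ▸
      (RegLocal.maximalIdeal_completion A I hI).symm ▸ Ideal.map_mono (le_maximalIdeal hK)))
  refine le_antisymm (fun x hx => mem_of_forall_mem_sup_pow (hne P hP) (hne I hI) fun n =>
    mem_sup_pow_of_complHom_eq_zero I P x hx n) (Ideal.map_le_iff_le_comap.2 fun a ha => ?_)
  rw [Ideal.mem_comap, RingHom.mem_ker, complHom_algebraMap, Ideal.Quotient.eq_zero_iff_mem.2 ha, map_zero]

theorem exists_complQuotEquiv [IsLocalRing A] [IsNoetherianRing A] [IsLocalRing (A ⧸ P)] :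
    ∃ e : (AdicCompletion (maximalIdeal A) A ⧸ P.map (algebraMap A (AdicCompletion (maximalIdeal A) A)))
      ≃+* AdicCompletion (maximalIdeal (A ⧸ P)) (A ⧸ P),
      ∀ a : A, e (Ideal.Quotient.mk _ (algebraMap A _ a)) = algebraMap (A ⧸ P) _ (Ideal.Quotient.mk P a) := by
  have hP : P ≠ ⊤ := fun h => Ideal.Quotient.nontrivial_iff.mp (inferInstance : Nontrivial (A ⧸ P)) h
  have hm : (maximalIdeal A).map (Ideal.Quotient.mk P) = maximalIdeal (A ⧸ P) :=
    IsLocalRing.eq_maximalIdeal (Ideal.IsMaximal.map_of_surjective_of_ker_le Ideal.Quotient.mk_surjective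
      (by rw [Ideal.mk_ker]; exact le_maximalIdeal hP))
  rw [← hm]
  refine ⟨(Ideal.quotEquivOfEq (ker_complHom_mk (maximalIdeal A) P (maximalIdeal.isMaximal A).ne_top hP).symm).trans
    (RingHom.quotientKerEquivOfSurjective (complHom_mk_surjective (maximalIdeal A) P)), fun a => ?_⟩
  exact complHom_algebraMap (Ideal.Quotient.mk P) (maximalIdeal A) _ le_rfl a

end Groth.Agent.CMCat
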