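import Mathlib
import Groth.Prelude.Def_EGA4b
import Groth.Agent.CMCat.Local
import Groth.Agent.CMCat.Polynomial
import Groth.Agent.CMCat.ComplQuot
import Groth.Agent.ExcLib.Transfer
import Groth.Agent.S9249

/-!
Quotients of Cohen–Macaulay local rings are formally catenary.
-/

set_option autoImplicit false

universe u

open IsLocalRing

namespace Groth.Agent.CMCat

theorem ringKrullDim_quotient_map {R S : Type u} [CommRing R] [CommRing S] (e : R ≃+* S) (I : Ideal R) :
    ringKrullDim (R ⧸ I) = ringKrullDim (S ⧸ I.map (e : R →+* S)) :=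
  ringKrullDim_eq_of_ringEquiv (Ideal.quotientEquiv I _ e rfl)

theorem isEquidim_of_ringEquiv {R S : Type u} [CommRing R] [CommRing S] (e : R ≃+* S)
    (h : EGA4.IsEquidim R) : EGA4.IsEquidim S := by
  intro p hp
  have hp' : p.comap (e : R →+* S) ∈ minimalPrimes R := by
    have hbot : (⊥ : Ideal S).comap (e : R →+* S) = ⊥ := by
      rw [← RingHom.ker_eq_comap_bot]
      exact (RingHom.injective_iff_ker_eq_bot (e : R →+* S)).1 e.injective
    have := Ideal.minimalPrimes_comap_of_surjective (f := (e : R →+* S)) e.surjective hp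
    rwa [hbot] at this
  have hmap : (p.comap (e : R →+* S)).map (e : R →+* S) = p := Ideal.map_comap_of_surjective _ e.surjective p
  rw [← hmap, ← ringKrullDim_quotient_map e, h _ hp', ringKrullDim_eq_of_ringEquiv e]

theorem isFormallyEquidim_of_ringEquiv {R S : Type u} [CommRing R] [CommRing S] [IsLocalRing R]
    [IsLocalRing S] (e : R ≃+* S) (h : EGA4.IsFormallyEquidim R) : EGA4.IsFormallyEquidim S :=
  isEquidim_of_ringEquiv (ExcLib.complEquiv e _ _ (IsLocalRing.map_ringEquiv_maximalIdeal e)) h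

theorem isStrictlyEquidim_of_cm {R : Type u} [CommRing R] [LocCoh.IsCohenMacaulayLocalRing R] :
    EGA4.IsStrictlyEquidim R := by
  intro p hp
  refine le_antisymm (ringKrullDim_quotient_le p) ?_
  have h := LocCoh.IsCohenMacaulayLocalRing.supportDim_eq_depth (R := R)
  rw [Module.supportDim_self_eq_ringKrullDim] at h
  obtain ⟨d, hd⟩ : ∃ d : ℕ, LocCoh.depth R R = d := by
    have hne := S14424.smul_top_ne (maximalIdeal R) Ideal.IsPrime.ne_top'
    obtain ⟨rs, hrs⟩ := Depth.exists_isMaxSeq (M := R) hne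
    exact ⟨rs.length, Depth.idealDepth_eq_length hne hrs⟩
  rw [h, hd]
  exact depth_le_ringKrullDim_quotient hd hp

/-- Quotients of a Cohen–Macaulay local ring by primes are formally equidimensional. -/
theorem isFormallyEquidim_quotient {A : Type u} [CommRing A] [LocCoh.IsCohenMacaulayLocalRing A]
    (P : Ideal A) [hP : P.IsPrime] : EGA4.IsFormallyEquidim (A ⧸ P) := by
  let Ah := AdicCompletion (maximalIdeal A) A
  have hm := (maximalIdeal.isMaximal A).ne_top
  haveI := RegLocal.isLocalRing_completion A (maximalIdeal A) hm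
  haveI := RegLocal.isNoetherianRing_completion A (maximalIdeal A)
  haveI := RegLocal.faithfullyFlat_completion A (maximalIdeal A) hm
  haveI : LocCoh.IsCohenMacaulayLocalRing Ah := (S9249.result A).1 inferInstance
  obtain ⟨e, -⟩ := exists_complQuotEquiv P
  refine isEquidim_of_ringEquiv e fun q hq => ?_
  let J := P.map (algebraMap A Ah)
  let Q : Ideal Ah := q.comap (Ideal.Quotient.mk J)
  haveI := hq.1.1
  haveI hQp : Q.IsPrime := Ideal.IsPrime.comap _
  have hJQ : J ≤ Q := fun x hx => by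
    rw [Ideal.mem_comap, Ideal.Quotient.eq_zero_iff_mem.2 hx]
    exact zero_mem _
  have hQmin : Q ∈ J.minimalPrimes := by
    have := Ideal.minimalPrimes_comap_of_surjective (f := Ideal.Quotient.mk J) Ideal.Quotient.mk_surjective hq
    rwa [← RingHom.ker_eq_comap_bot, Ideal.mk_ker] at this
  have hover : Q.under A = P := by
    have hle : P ≤ Q.under A := fun a ha => hJQ (Ideal.mem_map_of_mem _ ha)
    haveI : Q.LiesOver (Q.under A) := ⟨rfl⟩
    obtain ⟨Q', hle', hp', hlo⟩ := Ideal.exists_ideal_le_liesOver_of_le (S := Ah) Q hle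
    have hJQ' : J ≤ Q' := Ideal.map_le_iff_le_comap.2 hlo.over.le
    rw [le_antisymm (hQmin.2 ⟨hp', hJQ'⟩ hle') hle']
    exact hlo.over.symm
  haveI : Q.LiesOver P := ⟨hover.symm⟩
  have hht : Q.height = P.height := by
    rw [Ideal.height_eq_height_add_of_liesOver_of_hasGoingDown P Q]
    have hmap : Q.map (Ideal.Quotient.mk J) = q := Ideal.map_comap_of_surjective _ Ideal.Quotient.mk_surjective q
    rw [hmap, Ideal.height_eq_zero_iff.2 hq, add_zero]
  have h1 := (height_add_and_cm Q).2
  have h2 := (height_add_and_cm P).2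
  rw [RegLocal.ringKrullDim_completion A (maximalIdeal A) hm, ← h2, hht] at h1
  obtain ⟨n, hn⟩ := ENat.ne_top_iff_exists.mp (Ideal.height_ne_top (I := P) hP.ne_top)
  rw [← hn] at h1
  have key : ringKrullDim (Ah ⧸ Q) = ringKrullDim (A ⧸ P) := by
    obtain ⟨a, ha⟩ := ENat.ne_top_iff_exists.mp (CatLib.coheight_ne_top (⟨Q, hQp⟩ : PrimeSpectrum Ah))
    obtain ⟨b, hb⟩ := ENat.ne_top_iff_exists.mp (CatLib.coheight_ne_top (⟨P, hP⟩ : PrimeSpectrum A))
    have ha' : ringKrullDim (Ah ⧸ Q) = (a : ℕ) := by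
      rw [CatLib.ringKrullDim_quotient_eq_coheight ⟨Q, hQp⟩, ← ha]; rfl
    have hb' : ringKrullDim (A ⧸ P) = (b : ℕ) := by
      rw [CatLib.ringKrullDim_quotient_eq_coheight ⟨P, hP⟩, ← hb]; rfl
    rw [ha', hb'] at h1 ⊢
    have h1' : n + a = n + b := by exact_mod_cast h1
    rw [Nat.add_left_cancel h1']
  haveI : IsLocalRing (A ⧸ P) := IsLocalRing.of_surjective' (Ideal.Quotient.mk P) Ideal.Quotient.mk_surjective
  have hdim : ringKrullDim (Ah ⧸ J) = ringKrullDim (A ⧸ P) := by
    rw [ringKrullDim_eq_of_ringEquiv e, RegLocal.ringKrullDim_completion (A ⧸ P) _ (maximalIdeal.isMaximal _).ne_top]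
  rw [hdim, ← key]
  exact ringKrullDim_eq_of_ringEquiv ((DoubleQuot.quotQuotEquivQuotOfLE hJQ).symm.trans
    (Ideal.quotEquivOfEq (Ideal.map_comap_of_surjective _ Ideal.Quotient.mk_surjective q))).symm

theorem isFormallyCatenary_of_quotient {A B : Type u} [CommRing A] [LocCoh.IsCohenMacaulayLocalRing A]
    [CommRing B] [IsLocalRing B] [Algebra A B] (hs : Function.Surjective (algebraMap A B)) :
    EGA4.IsFormallyCatenary B := by
  intro p _
  let f : A →+* B ⧸ p := (Ideal.Quotient.mk p).comp (algebraMap A B)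
  haveI : (RingHom.ker f).IsPrime := RingHom.ker_isPrime f
  haveI : IsLocalRing (A ⧸ RingHom.ker f) :=
    IsLocalRing.of_surjective' (Ideal.Quotient.mk _) Ideal.Quotient.mk_surjective
  exact isFormallyEquidim_of_ringEquiv
    (RingHom.quotientKerEquivOfSurjective (f := f) (Ideal.Quotient.mk_surjective.comp hs))
    (isFormallyEquidim_quotient (RingHom.ker f))

/-- A Noetherian local domain of dimension at most one is Cohen–Macaulay. -/
theorem cm_of_domain_dim_le_one {R : Type u} [CommRing R] [IsLocalRing R] [IsNoetherianRing R] [IsDomain R]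
    (h : ringKrullDim R ≤ 1) : LocCoh.IsCohenMacaulayLocalRing R := by
  refine { supportDim_eq_depth := ?_ }
  rw [Module.supportDim_self_eq_ringKrullDim]
  have hne := S14424.smul_top_ne (maximalIdeal R) Ideal.IsPrime.ne_top'
  have hle : ((LocCoh.depth R R : ℕ∞) : WithBot ℕ∞) ≤ ringKrullDim R := by
    obtain ⟨rs, hrs⟩ := Depth.exists_isMaxSeq (M := R) hne
    rw [LocCoh.depth, Depth.idealDepth_eq_length hne hrs]
    have h2 := (S14424.localize_seq hrs.1 (maximalIdeal R) hrs.2.1).1
    rw [← maximalIdeal_height_eq_ringKrullDim]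
    exact WithBot.coe_le_coe.2 h2
  refine le_antisymm ?_ hle
  by_cases hf : IsField R
  · rw [ringKrullDim_eq_zero_of_isField hf]
    exact WithBot.coe_le_coe.2 bot_le
  refine h.trans (WithBot.coe_le_coe.2 ?_)
  obtain ⟨x, hx, hx0⟩ := Submodule.exists_mem_ne_zero_of_ne_bot
    (fun e => hf (IsLocalRing.isField_iff_maximalIdeal_eq.2 e))
  rw [LocCoh.depth, show (1 : ℕ∞) = ((1 : ℕ) : ℕ∞) from rfl, Depth.le_idealDepth_iff hne]
  exact ⟨[x], rfl, fun r hr => by rw [List.mem_singleton.1 hr]; exact hx,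
    (RingTheory.Sequence.isWeaklyRegular_singleton_iff _ _).2 fun a b hab => mul_left_cancel₀ hx0 hab⟩

theorem isFormallyStrictlyCatenary_of_dim_le_one {A : Type u} [CommRing A] [IsLocalRing A]
    [IsNoetherianRing A] (h : ringKrullDim A ≤ 1) : EGA4.IsFormallyStrictlyCatenary A := by
  intro p _
  haveI : IsLocalRing (A ⧸ p) := IsLocalRing.of_surjective' (Ideal.Quotient.mk p) Ideal.Quotient.mk_surjective
  haveI := cm_of_domain_dim_le_one (R := A ⧸ p) ((ringKrullDim_quotient_le p).trans h)
  haveI := RegLocal.isLocalRing_completion (A ⧸ p) _ (maximalIdeal.isMaximal (A ⧸ p)).ne_top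
  haveI : LocCoh.IsCohenMacaulayLocalRing (AdicCompletion (maximalIdeal (A ⧸ p)) (A ⧸ p)) :=
    (S9249.result (A ⧸ p)).1 inferInstance
  exact isStrictlyEquidim_of_cm

end Groth.Agent.CMCat
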